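import Groth.Agent.Ref1X.BirConn
import Groth.Agent.SteinLib.General
import Groth.Agent.S1297

/-!
# Finite radicial covers and connectedness of fibres
-/

universe u

set_option backward.isDefEq.respectTransparency false
set_option backward.isDefEq.respectTransparency.types false
set_option linter.style.haveILetI false

open CategoryTheory Limits AlgebraicGeometry TopologicalSpace

namespace Groth.Agent.Radicial

/-- A composition of a proper geometrically connected morphism with a radicial surjection has
geometrically connected fibres. -/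
theorem geometricallyConnected_comp {X N Y : Scheme.{u}} (g : X ⟶ N) (h : N ⟶ Y) [IsProper g]
    [GeometricallyConnected g] [UniversallyInjective h] [Surjective h] :
    GeometricallyConnected (g ≫ h) := by
  refine ⟨geometrically_iff_of_isClosedUnderIsomorphisms.mpr fun K _ x => ?_⟩
  let b := pullback.fst h x
  let π := pullback.snd g b
  haveI hinj : UniversallyInjective (pullback.snd h x) := MorphismProperty.pullback_snd h x ‹_›
  haveI : Surjective (pullback.snd h x) := MorphismProperty.pullback_snd h x ‹_›
  haveI : Subsingleton ↥(pullback h x) :=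
    ⟨fun a c => (pullback.snd h x).injective (Subsingleton.elim _ _)⟩
  haveI : Nonempty ↥(pullback h x) := ⟨((pullback.snd h x).surjective (IsLocalRing.closedPoint K)).choose⟩
  haveI : GeometricallyConnected π := MorphismProperty.pullback_snd g b ‹_›
  haveI : ConnectedSpace ↥(pullback g b) := GeometricallyConnected.connectedSpace_of_subsingleton π
  let e := (pullbackRightPullbackFstIso h x g).hom.homeomorph
  exact e.surjective.connectedSpace e.continuous

theorem appTop_lift {W N : Scheme.{u}} (V : N.Opens) (l : W ⟶ V) (a : W ⟶ N) (h : l ≫ V.ι = a) (hle : ⊤ ≤ a ⁻¹ᵁ V) :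
    l.appTop = V.topIso.hom ≫ a.appLE V ⊤ hle := by
  subst h
  rw [← Scheme.Hom.appLE_comp_appLE l V.ι V ⊤ ⊤ (by simp) (by simp), ← Category.assoc]
  have : V.topIso.hom ≫ V.ι.appLE V ⊤ (by simp) = 𝟙 _ := by
    simp [Scheme.Hom.appLE]
    erw [← Functor.map_comp, ← Functor.map_comp]
    exact N.presheaf.map_id _
  rw [this, Category.id_comp]
  exact (Scheme.Hom.appLE_eq_app l).symm

variable {X N Y : Scheme.{u}} [IsIntegral X] [IsIntegral N] [IsIntegral Y]

theorem eq_genericPoint_of_finite (h : N ⟶ Y) [IsFinite h] (z : N)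
    (hz : h z = h (genericPoint N)) : z = genericPoint N := by
  let y := h z
  haveI : DiscreteTopology ↥(h.fiber y) := inferInstance
  haveI : DiscreteTopology ↥(h ⁻¹' {y}) := (h.fiberHomeo y).discreteTopology
  have h1 : (⟨genericPoint N, hz.symm⟩ : ↥(h ⁻¹' {y})) ⤳ ⟨z, rfl⟩ :=
    (subtype_specializes_iff _ _).2 ((genericPoint_spec N).specializes (Set.mem_univ z))
  exact (congrArg Subtype.val h1.eq).symm

/-- Two field-valued points over the generic point agree. -/
theorem eq_of_generic (g : X ⟶ N) (h : N ⟶ Y) [IsFinite h] (hg : g (genericPoint X) = genericPoint N)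
    (hdom : (g ≫ h).base (genericPoint X) ⤳ genericPoint Y)
    (hrad : ∀ x : X.functionField, (∃ q : Polynomial Y.functionField, q ≠ 0 ∧
        Polynomial.eval₂ (CohIII.stalkToFunctionField (g ≫ h) (genericPoint Y) hdom) x q = 0) →
      ∃ e : ℕ, x ^ (ringExpChar X.functionField ^ e) ∈
        Set.range (CohIII.stalkToFunctionField (g ≫ h) (genericPoint Y) hdom))
    {L : Type u} [Field L] (a₁ a₂ : Spec (CommRingCat.of L) ⟶ N)
    (h₁ : ∀ p, a₁ p = genericPoint N) (h₂ : ∀ p, a₂ p = genericPoint N) (hh : a₁ ≫ h = a₂ ≫ h) : a₁ = a₂ := by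
  have hY : h (genericPoint N) = genericPoint Y := by
    have h3 : (genericPoint Y : Y) ⤳ h (genericPoint N) := (genericPoint_spec Y).specializes (Set.mem_univ _)
    exact ((hg ▸ hdom : h (genericPoint N) ⤳ genericPoint Y).antisymm h3).eq
  obtain ⟨U, hU, hηU, -⟩ := exists_isAffineOpen_mem_and_subset (x := genericPoint Y) (U := ⊤) trivial
  haveI : Nonempty U := ⟨⟨_, hηU⟩⟩
  haveI : IsFractionRing Γ(Y, U) Y.functionField := functionField_isFractionRing_of_isAffineOpen Y U hU
  let V := h ⁻¹ᵁ U
  have hV : IsAffineOpen V := hU.preimage h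
  haveI : IsAffine (V : Scheme.{u}) := hV
  have hηV : genericPoint N ∈ V := show h (genericPoint N) ∈ U from hY ▸ hηU
  have hηW : genericPoint X ∈ g ⁻¹ᵁ V := show g (genericPoint X) ∈ V from hg ▸ hηV
  haveI : Nonempty V := ⟨⟨_, hηV⟩⟩
  set ψ := CohIII.stalkToFunctionField (g ≫ h) (genericPoint Y) hdom
  let η : Γ(N, V) →+* X.functionField :=
    (X.presheaf.germ (g ⁻¹ᵁ V) (genericPoint X) hηW).hom.comp (g.app V).hom
  have hψ : ∀ c : Γ(Y, U), ψ (algebraMap Γ(Y, U) Y.functionField c) = η (h.app U c) := fun c => by
    show (g ≫ h).stalkMap (genericPoint X) (Y.presheaf.stalkSpecializes hdom (Y.presheaf.germ U _ hηU c)) = _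
    rw [TopCat.Presheaf.germ_stalkSpecializes_apply]
    exact (g ≫ h).germ_stalkMap_apply U (genericPoint X) hηW c
  have hηinj : Function.Injective η := by
    intro c c' hc
    have hc' : g.stalkMap (genericPoint X) (N.presheaf.germ V (g (genericPoint X)) hηW c) =
        g.stalkMap (genericPoint X) (N.presheaf.germ V (g (genericPoint X)) hηW c') :=
      (g.germ_stalkMap_apply V _ hηW c).trans (hc.trans (g.germ_stalkMap_apply V _ hηW c').symm)
    refine germ_injective_of_isIntegral (X := N) (g (genericPoint X)) hηW ?_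
    have hF : IsField (N.presheaf.stalk (g (genericPoint X))) := by
      rw [hg]; exact Field.toIsField N.functionField
    letI := hF.toField
    exact (g.stalkMap (genericPoint X)).hom.injective hc'
  have hle : ∀ (a : Spec (CommRingCat.of L) ⟶ N), (∀ p, a p = genericPoint N) → ⊤ ≤ a ⁻¹ᵁ V :=
    fun a ha p _ => show a p ∈ V from (ha p).symm ▸ hηV
  let r : ∀ (a : Spec (CommRingCat.of L) ⟶ N), (∀ p, a p = genericPoint N) → (Γ(N, V) →+* L) := fun a ha =>
    (Scheme.ΓSpecIso (CommRingCat.of L)).hom.hom.comp (a.appLE V ⊤ (hle a ha)).hom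
  have hr0 : ∀ a ha (c : Γ(N, V)), c ≠ 0 → r a ha c ≠ 0 := by
    intro a ha c hc
    have hb : ⊤ ≤ a ⁻¹ᵁ N.basicOpen c := fun p _ => by
      show a p ∈ N.basicOpen c
      rw [ha p, Scheme.mem_basicOpen _ _ _ hηV, isUnit_iff_ne_zero]
      exact fun h0 => hc (germ_injective_of_isIntegral (X := N) _ hηV (h0.trans (map_zero _).symm))
    have hu : IsUnit (a.appLE V ⊤ (hle a ha) c) := by
      have h4 := (RingedSpace.isUnit_res_basicOpen N.toLocallyRingedSpace.toRingedSpace c).map
        (a.appLE (N.basicOpen c) ⊤ hb).hom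
      have h5 := congr($(a.map_appLE hb (homOfLE (N.basicOpen_le c)).op) c)
      exact h5 ▸ h4
    exact (hu.map (Scheme.ΓSpecIso (CommRingCat.of L)).hom.hom).ne_zero
  have hrinj : ∀ a ha, Function.Injective (r a ha) := fun a ha =>
    (injective_iff_map_eq_zero _).2 fun c hc => by_contra fun h0 => hr0 a ha c h0 hc
  have hA : ∀ c, r a₁ h₁ (h.app U c) = r a₂ h₂ (h.app U c) := fun c => by
    show (Scheme.ΓSpecIso (CommRingCat.of L)).hom _ = (Scheme.ΓSpecIso (CommRingCat.of L)).hom _
    refine congrArg _ ?_
    have e1 := congr($(Scheme.Hom.comp_appLE a₁ h U ⊤ (hle a₁ h₁)) c)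
    have e2 := congr($(Scheme.Hom.comp_appLE a₂ h U ⊤ (hle a₂ h₂)) c)
    refine e1.symm.trans (Eq.trans ?_ e2)
    congr 2
    simp only [hh]
  obtain ⟨q, hq⟩ : ∃ q, ExpChar X.functionField q := ⟨ringExpChar X.functionField, inferInstance⟩
  haveI := hq
  haveI : ExpChar Γ(N, V) q := RingHom.expChar η hηinj q
  haveI : ExpChar L q := expChar_of_injective_ringHom (hrinj a₁ h₁) q
  have hr : r a₁ h₁ = r a₂ h₂ := by
    refine RingHom.ext fun b => ?_
    obtain ⟨P, hP, hP0⟩ := (IsIntegralHom.isIntegral_app h U hU) b
    have h2 : ψ.comp (algebraMap Γ(Y, U) Y.functionField) = η.comp (h.app U).hom := RingHom.ext hψ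
    obtain ⟨e, v, hv⟩ := hrad (η b) ⟨P.map (algebraMap Γ(Y, U) Y.functionField), (hP.map _).ne_zero, by
      rw [Polynomial.eval₂_map, h2, ← Polynomial.hom_eval₂, hP0, map_zero]⟩
    rw [ringExpChar.eq X.functionField q] at hv
    obtain ⟨⟨c, d, hd⟩, hcd⟩ := IsLocalization.surj (nonZeroDivisors Γ(Y, U)) (show Y.functionField from v)
    have hkey : h.app U d * b ^ q ^ e = h.app U c := hηinj (by
      rw [map_mul, map_pow, ← hv, ← hψ, ← hψ, ← map_mul, mul_comm, hcd])
    have hd0 : h.app U d ≠ 0 := fun h0 => by
      have h6 := (hψ d).trans (by rw [h0, map_zero])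
      exact nonZeroDivisors.ne_zero hd ((IsFractionRing.to_map_eq_zero_iff (K := Y.functionField)).1
        ((map_eq_zero ψ).1 h6))
    have e1 := congrArg (r a₁ h₁) hkey
    have e2 := congrArg (r a₂ h₂) hkey
    rw [map_mul, map_pow] at e1 e2
    refine iterateFrobenius_inj L q e ?_
    rw [iterateFrobenius_def, iterateFrobenius_def]
    refine mul_left_cancel₀ (hr0 a₁ h₁ _ hd0) ?_
    rw [e1, hA d, e2, hA c]
  let l := fun (a : Spec (CommRingCat.of L) ⟶ N) (ha : ∀ p, a p = genericPoint N) =>
    IsOpenImmersion.lift V.ι a (by rw [Scheme.Opens.range_ι]; rintro _ ⟨p, rfl⟩; exact hle a ha (Set.mem_univ p))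
  have hl : ∀ a ha, (l a ha).appTop = V.topIso.hom ≫ a.appLE V ⊤ (hle a ha) := fun a ha =>
    appTop_lift V _ a (IsOpenImmersion.lift_fac _ _ _) (hle a ha)
  have : l a₁ h₁ = l a₂ h₂ := by
    refine ext_of_isAffine ?_
    rw [hl a₁ h₁, hl a₂ h₂]
    congr 1
    refine CommRingCat.hom_ext (RingHom.ext fun c => ?_)
    exact (Scheme.ΓSpecIso (CommRingCat.of L)).commRingCatIsoToRingEquiv.injective (RingHom.congr_fun hr c)
  have := congrArg (· ≫ V.ι) this
  simpa [l] using this

/-- The finite part is radicial. -/
theorem universallyInjective_of_forall_dense (g : X ⟶ N) (h : N ⟶ Y) [IsFinite h] [Surjective g]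
    (hg : g (genericPoint X) = genericPoint N)
    (hdom : (g ≫ h).base (genericPoint X) ⤳ genericPoint Y)
    (hrad : ∀ x : X.functionField, (∃ q : Polynomial Y.functionField, q ≠ 0 ∧
        Polynomial.eval₂ (CohIII.stalkToFunctionField (g ≫ h) (genericPoint Y) hdom) x q = 0) →
      ∃ e : ℕ, x ^ (ringExpChar X.functionField ^ e) ∈
        Set.range (CohIII.stalkToFunctionField (g ≫ h) (genericPoint Y) hdom))
    (hopen : ∀ Z ∈ irreducibleComponents ↥(pullback (g ≫ h) h), Dense ((pullback.snd (g ≫ h) h).base '' Z)) :
    UniversallyInjective h := by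
  rw [UniversallyInjective.iff_diagonal]
  refine ⟨fun w => ?_⟩
  let P := pullback (g ≫ h) h
  let ρ : P ⟶ pullback h h := pullback.lift (pullback.fst (g ≫ h) h ≫ g) (pullback.snd (g ≫ h) h)
    (by rw [Category.assoc, pullback.condition])
  have sq : IsPullback (pullback.fst (g ≫ h) h) ρ g (pullback.fst h h) := by
    refine IsPullback.of_bot ?_ (pullback.lift_fst _ _ _).symm (IsPullback.of_hasPullback h h)
    rw [pullback.lift_snd]
    exact IsPullback.of_hasPullback (g ≫ h) h
  haveI : Surjective ρ := MorphismProperty.of_isPullback sq ‹_›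
  obtain ⟨p, rfl⟩ := ρ.surjective w
  have hclosed : IsClosed (Set.range (pullback.diagonal h)) := (pullback.diagonal h).isClosedEmbedding.isClosed_range
  suffices hgen : ρ (isIrreducible_irreducibleComponent (x := p)).genericPoint ∈ Set.range (pullback.diagonal h) by
    set Z := irreducibleComponent p
    have hZ : IsClosed Z := isClosed_irreducibleComponent
    have hsp := (isIrreducible_irreducibleComponent (x := p)).isGenericPoint_genericPoint hZ
    have hp : (isIrreducible_irreducibleComponent (x := p)).genericPoint ⤳ p :=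
      hsp.specializes mem_irreducibleComponent
    exact (hp.map ρ.continuous).mem_closed hclosed hgen
  set z := (isIrreducible_irreducibleComponent (x := p)).genericPoint
  have hsp : IsGenericPoint z (irreducibleComponent p) :=
    (isIrreducible_irreducibleComponent (x := p)).isGenericPoint_genericPoint isClosed_irreducibleComponent
  set w := ρ z
  have h2 : pullback.snd h h w = genericPoint N := by
    have e : pullback.snd h h w = pullback.snd (g ≫ h) h z := by
      rw [← Scheme.Hom.comp_apply, pullback.lift_snd]
    rw [e]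
    have hd := hopen _ (irreducibleComponent_mem_irreducibleComponents p)
    have hsub : (pullback.snd (g ≫ h) h).base '' irreducibleComponent p ⊆ closure {pullback.snd (g ≫ h) h z} := by
      rintro _ ⟨x, hx, rfl⟩
      exact ((hsp.specializes hx).map (pullback.snd (g ≫ h) h).continuous).mem_closure
    have hgen : IsGenericPoint (pullback.snd (g ≫ h) h z) Set.univ := by
      refine Set.eq_univ_of_univ_subset ?_
      rw [← hd.closure_eq]
      exact closure_minimal hsub isClosed_closure
    exact hgen.eq (genericPoint_spec N)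
  have h1 : pullback.fst h h w = genericPoint N := eq_genericPoint_of_finite h _ (by
    rw [← h2]
    exact congr(($(pullback.condition (f := h) (g := h))) w))
  let s := (pullback h h).fromSpecResidueField w
  have hs : ∀ t, s t = w := fun t => by
    have : s t ∈ Set.range s := Set.mem_range_self t
    simpa [s] using this
  have heq : s ≫ pullback.fst h h = s ≫ pullback.snd h h :=
    eq_of_generic (L := (pullback h h).residueField w) g h hg hdom hrad _ _
      (fun t => (congrArg _ (hs t)).trans h1) (fun t => (congrArg _ (hs t)).trans h2)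
      (by simp [pullback.condition])
  have hfac : (s ≫ pullback.fst h h) ≫ pullback.diagonal h = s := by
    refine pullback.hom_ext ?_ ?_
    · simp
    · simp [heq]
  refine ⟨(s ≫ pullback.fst h h) (IsLocalRing.closedPoint _), ?_⟩
  rw [← Scheme.Hom.comp_apply, hfac, hs]

end Groth.Agent.Radicial

namespace Groth.Agent.Radicial

theorem geometricallyConnected_of_forall_dense {X Y : Scheme.{u}} [IsIntegral X] [IsIntegral Y]
    [IsLocallyNoetherian Y] (f : X ⟶ Y) [IsProper f] (hdom : f.base (genericPoint X) ⤳ genericPoint Y)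
    (hopen : ∀ (Y' : Scheme.{u}) (g : Y' ⟶ Y), IrreducibleSpace ↥Y' → IsLocallyNoetherian Y' → IsDominant g →
      ∀ Z ∈ irreducibleComponents ↥(pullback f g), Dense ((pullback.snd f g).base '' Z))
    (hrad : ∀ x : X.functionField, (∃ q : Polynomial Y.functionField, q ≠ 0 ∧
        Polynomial.eval₂ (CohIII.stalkToFunctionField f (genericPoint Y) hdom) x q = 0) →
      ∃ e : ℕ, x ^ (ringExpChar X.functionField ^ e) ∈
        Set.range (CohIII.stalkToFunctionField f (genericPoint Y) hdom)) :
    GeometricallyConnected f := by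
  have e := f.toNormalization_fromNormalization
  haveI := S1297.result f
  haveI := SteinLib.isProper_toNormalization f
  haveI := SteinLib.geometricallyConnected_toNormalization_general f
  haveI : Surjective f := ⟨fun y => by
    have h1 : f (genericPoint X) = genericPoint Y :=
      (hdom.antisymm ((genericPoint_spec Y).specializes (Set.mem_univ _))).eq
    have h2 : closure (Set.range f) = Set.univ := by
      refine Set.eq_univ_of_univ_subset ?_
      rw [← (genericPoint_spec Y)]
      exact closure_mono (Set.singleton_subset_iff.2 ⟨_, h1⟩)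
    rw [f.isClosedMap.isClosed_range.closure_eq] at h2
    exact (h2 ▸ Set.mem_univ y : y ∈ Set.range f)⟩
  have key : ∀ (N : Scheme.{u}) (g : X ⟶ N) (h : N ⟶ Y), g ≫ h = f → IsIntegral N → IsFinite h →
      IsProper g → GeometricallyConnected g → GeometricallyConnected f := by
    rintro N g h rfl _ _ _ _
    haveI : Surjective h := Surjective.of_comp g h
    haveI : IsLocallyNoetherian N := LocallyOfFiniteType.isLocallyNoetherian h
    have hg : g (genericPoint X) = genericPoint N := by
      have h1 : IsGenericPoint (g (genericPoint X)) (closure (g '' Set.univ)) :=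
        (genericPoint_spec X).image g.continuous
      rw [Set.image_univ, g.surjective.range_eq, closure_univ] at h1
      exact h1.eq (genericPoint_spec N)
    haveI : UniversallyInjective h := universallyInjective_of_forall_dense g h hg hdom hrad
      (hopen N h inferInstance inferInstance inferInstance)
    exact geometricallyConnected_comp g h
  exact key _ _ _ e inferInstance inferInstance inferInstance inferInstance

end Groth.Agent.Radicial
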